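import Cfsg.Prelude.Def_LocalEven
import Cfsg.Agent.ConjFunctor.Sections
import Cfsg.Agent.LocalEven.Involves
import Cfsg.Agent.OutPOmega.Octa

/-!
# Criteria for `S₄`-freeness, and for the presence of `S₃`
-/

set_option autoImplicit false
set_option linter.style.haveILetI false
set_option linter.unusedSectionVars false

namespace CfsgLib.GoldschmidtS4

open Cfsg Subgroup
open scoped commutatorElement

variable {G : Type*} [Group G] [Finite G]

theorem card_dvd_of_involves {H : Type*} [Group H] (h : Involves H G) :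
    Nat.card H ∣ Nat.card G := by
  obtain ⟨K, f, hf⟩ := CfsgLib.LocalEven.exists_surjective_of_involves' h
  exact (Subgroup.card_dvd_of_surjective f hf).trans K.card_subgroup_dvd_card

theorem not_involves_of_not_three_dvd (h : ¬ 3 ∣ Nat.card G) :
    ¬ Involves (Equiv.Perm (Fin 4)) G ∧ ¬ Involves (Equiv.Perm (Fin 3)) G := by
  refine ⟨fun hI => h ?_, fun hI => h ?_⟩
  · refine dvd_trans ?_ (card_dvd_of_involves hI)
    rw [Nat.card_eq_fintype_card, Fintype.card_perm, Fintype.card_fin]; decide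
  · refine dvd_trans ?_ (card_dvd_of_involves hI)
    rw [Nat.card_eq_fintype_card, Fintype.card_perm, Fintype.card_fin]; decide

/-- All `2`-subgroups are commutative. -/
def AbelTwo (G : Type*) [Group G] : Prop :=
  ∀ P : Subgroup G, IsPGroup 2 P → ∀ a ∈ P, ∀ b ∈ P, a * b = b * a

theorem abelTwo_of_sylow (P : Sylow 2 G) (h : ∀ a ∈ (P : Subgroup G), ∀ b ∈ (P : Subgroup G),
    a * b = b * a) : AbelTwo G := by
  haveI : Fact (Nat.Prime 2) := ⟨Nat.prime_two⟩
  intro R hR a ha b hb
  obtain ⟨Q, hQ⟩ := hR.exists_le_sylow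
  obtain ⟨g, rfl⟩ := MulAction.exists_smul_eq G P Q
  have key : ∀ x ∈ R, g⁻¹ * x * g ∈ (P : Subgroup G) := fun x hx => by
    have := hQ hx
    rw [Sylow.smul_def] at this
    rw [Sylow.pointwise_smul_def, Subgroup.mem_pointwise_smul_iff_inv_smul_mem] at this
    simpa [MulAut.smul_def] using this
  have := h _ (key a ha) _ (key b hb)
  simpa [mul_assoc] using congrArg (fun z => g * z * g⁻¹) this

theorem AbelTwo.of_injective {H : Type*} [Group H] (h : AbelTwo H) (f : G →* H)
    (hf : Function.Injective f) : AbelTwo G := fun P hP a ha b hb => hf (by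
  rw [map_mul, map_mul]
  exact h (P.map f) (hP.map f) _ (mem_map_of_mem f ha) _ (mem_map_of_mem f hb))

theorem AbelTwo.of_odd_index {C : Subgroup G} (h : AbelTwo C) (hC : Odd C.index) : AbelTwo G := by
  haveI : Fact (Nat.Prime 2) := ⟨Nat.prime_two⟩
  obtain ⟨P⟩ : Nonempty (Sylow 2 C) := inferInstance
  set Q : Subgroup G := (P : Subgroup C).map C.subtype
  obtain ⟨S, hS⟩ := (P.isPGroup'.map C.subtype).exists_le_sylow
  have hSQ : (S : Subgroup G) = Q := by
    refine (eq_of_le_of_card_ge hS ?_).symm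
    rw [card_map_of_injective C.subtype_injective, S.card_eq_multiplicity, P.card_eq_multiplicity,
      ← C.card_mul_index, Nat.factorization_mul Nat.card_pos.ne' index_ne_zero_of_finite,
      Finsupp.add_apply, Nat.factorization_eq_zero_of_not_dvd hC.not_two_dvd_nat, add_zero]
  refine abelTwo_of_sylow S ?_
  rw [hSQ]
  rintro _ ⟨a, ha, rfl⟩ _ ⟨b, hb, rfl⟩
  rw [← map_mul, ← map_mul, h _ P.isPGroup' a ha b hb]

theorem abelTwo_two_mul {T K : Type*} [Group T] [Group K] [IsMulCommutative T] (h : AbelTwo K) :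
    AbelTwo (T × K) := fun P hP a ha b hb => by
  refine Prod.ext (IsMulCommutative.is_comm.comm a.1 b.1) ?_
  exact h (P.map (MonoidHom.snd T K)) (hP.map _) _ (mem_map_of_mem _ ha) _ (mem_map_of_mem _ hb)

/-- Groups whose `2`-subgroups are commutative do not involve `S₄`. -/
theorem not_involves_four_of_abelTwo (h : AbelTwo G) :
    ¬ Involves (Equiv.Perm (Fin 4)) G := by
  intro hI
  haveI : Fact (Nat.Prime 2) := ⟨Nat.prime_two⟩
  obtain ⟨K, f, hf⟩ := CfsgLib.LocalEven.exists_surjective_of_involves' hI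
  obtain ⟨P⟩ : Nonempty (Sylow 2 K) := inferInstance
  have hK : AbelTwo K := h.of_injective K.subtype K.subtype_injective
  let Q := P.mapSurjective hf
  have hQ : ∀ a ∈ (Q : Subgroup (Equiv.Perm (Fin 4))), ∀ b ∈ (Q : Subgroup (Equiv.Perm (Fin 4))),
      a * b = b * a := by
    rw [Sylow.coe_mapSurjective]
    rintro _ ⟨a, ha, rfl⟩ _ ⟨b, hb, rfl⟩
    rw [← map_mul, ← map_mul, hK _ P.isPGroup' a ha b hb]
  have hAb := abelTwo_of_sylow Q hQ
  let x : Equiv.Perm (Fin 4) := Equiv.swap 0 1 * Equiv.swap 1 2 * Equiv.swap 2 3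
  let y : Equiv.Perm (Fin 4) := Equiv.swap 0 2
  -- `x` and `y` generate a dihedral group of order eight
  have hD : IsPGroup 2 (closure ({x, y} : Set (Equiv.Perm (Fin 4)))) := by
    refine IsPGroup.of_card (n := 3) ?_
    let D : Subgroup (Equiv.Perm (Fin 4)) :=
      { carrier := {g | g (0 + 2) = g 0 + 2 ∧ g (1 + 2) = g 1 + 2}
        one_mem' := ⟨rfl, rfl⟩
        mul_mem' := fun {g k} hg hk => by
          revert hg hk; revert g k
          decide +kernel
        inv_mem' := fun {g} hg => by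
          revert hg; revert g
          decide +kernel }
    have hle : closure ({x, y} : Set (Equiv.Perm (Fin 4))) ≤ D := by
      rw [closure_le]
      rintro g (rfl | rfl) <;> exact ⟨by decide, by decide⟩
    have hge : D ≤ closure ({x, y} : Set (Equiv.Perm (Fin 4))) := by
      intro g hg
      have hg' : g = 1 ∨ g = x ∨ g = x * x ∨ g = x * x * x ∨ g = y ∨ g = y * x ∨ g = y * (x * x) ∨
          g = y * (x * x * x) := by
        revert hg
        change (g (0 + 2) = g 0 + 2 ∧ g (1 + 2) = g 1 + 2) → _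
        revert g
        decide +kernel
      have hx : x ∈ closure ({x, y} : Set (Equiv.Perm (Fin 4))) := subset_closure (by simp)
      have hy : y ∈ closure ({x, y} : Set (Equiv.Perm (Fin 4))) := subset_closure (by simp)
      rcases hg' with rfl | rfl | rfl | rfl | rfl | rfl | rfl | rfl
      exacts [one_mem _, hx, mul_mem hx hx, mul_mem (mul_mem hx hx) hx, hy, mul_mem hy hx,
        mul_mem hy (mul_mem hx hx), mul_mem hy (mul_mem (mul_mem hx hx) hx)]
    rw [le_antisymm hle hge,
      show Nat.card D = Nat.card {g : Equiv.Perm (Fin 4) // g (0 + 2) = g 0 + 2 ∧ g (1 + 2) = g 1 + 2}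
        from rfl, Nat.card_eq_fintype_card]
    decide +kernel
  have := hAb _ hD x (subset_closure (by simp)) y (subset_closure (by simp))
  exact absurd this (by decide +kernel)

/-- If every normaliser of a nontrivial `2`-subgroup has a `2`-group as derived group, `S₄` is not
involved. -/
theorem not_involves_four_of_normalizer
    (h : ∀ P : Subgroup G, IsPGroup 2 P → P ≠ ⊥ →
      IsPGroup 2 (⁅normalizer (P : Set G), normalizer (P : Set G)⁆ : Subgroup G)) :
    ¬ Involves (Equiv.Perm (Fin 4)) G := by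
  intro hI
  haveI : Fact (Nat.Prime 2) := ⟨Nat.prime_two⟩
  obtain ⟨K, f, hf⟩ := CfsgLib.LocalEven.exists_surjective_of_involves' hI
  let V : Subgroup (Equiv.Perm (Fin 4)) :=
    { carrier := {g | g * g = 1 ∧ Equiv.Perm.sign g = 1}
      one_mem' := ⟨one_mul 1, map_one _⟩
      mul_mem' := fun {g k} hg hk => by
        revert hg hk; revert g k
        decide +kernel
      inv_mem' := fun {g} hg => by
        revert hg; revert g
        decide +kernel }
  haveI hVn : V.Normal := ⟨fun n hn g => by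
    refine ⟨?_, ?_⟩
    · rw [show g * n * g⁻¹ * (g * n * g⁻¹) = g * (n * n) * g⁻¹ by group, hn.1]; group
    · rw [map_mul, map_mul, hn.2, mul_one, ← map_mul, mul_inv_cancel, map_one]⟩
  set L := V.comap f
  obtain ⟨P⟩ : Nonempty (Sylow 2 L) := inferInstance
  set P' := (P : Subgroup L).map L.subtype
  have htop : normalizer (P' : Set K) ⊔ L = ⊤ := Sylow.normalizer_sup_eq_top P
  set N := normalizer (P' : Set K)
  have hVp : IsPGroup 2 V := fun g => ⟨1, Subtype.ext (by
    rw [SubmonoidClass.coe_pow, pow_one, sq, g.2.1]; rfl)⟩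
  -- `f` is already surjective on the normaliser
  have hNf : N.map f = ⊤ := by
    let g₀ : L →* V := f.subgroupComap V
    have hg₀ : Function.Surjective g₀ := MonoidHom.subgroupComap_surjective_of_surjective f V hf
    have hPV : (P'.map f : Subgroup _) = V := by
      refine le_antisymm ?_ fun v hv => ?_
      · rintro _ ⟨_, ⟨y, -, rfl⟩, rfl⟩
        exact y.2
      · let Q := P.mapSurjective hg₀
        have hQ : (Q : Subgroup V) = ⊤ := by
          refine eq_top_of_card_eq _ ?_
          obtain ⟨n, hn⟩ := IsPGroup.iff_card.1 hVp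
          rw [Q.card_eq_multiplicity, hn, Nat.prime_two.factorization_pow, Finsupp.single_eq_same]
        obtain ⟨y, hy, hyv⟩ : (⟨v, hv⟩ : V) ∈ (P : Subgroup L).map g₀ := by
          rw [← Sylow.coe_mapSurjective hg₀ P]; exact hQ ▸ mem_top _
        exact ⟨y.1, mem_map_of_mem L.subtype hy, congrArg Subtype.val hyv⟩
    rw [eq_top_iff]
    intro s _
    obtain ⟨k, rfl⟩ := hf s
    obtain ⟨n, hn, l, hl, rfl⟩ := mem_sup_of_normal_right.1 (htop ▸ mem_top k : k ∈ N ⊔ L)
    rw [map_mul]
    refine mul_mem (mem_map_of_mem f hn) ?_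
    have : f l ∈ P'.map f := hPV ▸ hl
    exact map_mono le_normalizer this
  let R := P'.map K.subtype
  have hR : IsPGroup 2 R := (P.isPGroup'.map L.subtype).map K.subtype
  have hRne : R ≠ ⊥ := by
    intro hb
    have hP' : P' = ⊥ := (map_eq_bot_iff_of_injective _ K.subtype_injective).1 hb
    have hP0 : (P : Subgroup L) = ⊥ := (map_eq_bot_iff_of_injective _ L.subtype_injective).1 hP'
    have h2 : 2 ∣ Nat.card L := by
      have h4 : Nat.card V ∣ Nat.card L :=
        card_dvd_of_surjective (f.subgroupComap V)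
          (MonoidHom.subgroupComap_surjective_of_surjective f V hf)
      refine dvd_trans ?_ h4
      rw [show Nat.card V = Nat.card {g : Equiv.Perm (Fin 4) // g * g = 1 ∧ Equiv.Perm.sign g = 1}
        from rfl, Nat.card_eq_fintype_card]
      decide +kernel
    exact P.ne_bot_of_dvd_card h2 hP0
  have hD := h R hR hRne
  have hle : ⁅N, N⁆.map K.subtype ≤ ⁅normalizer (R : Set G), normalizer (R : Set G)⁆ := by
    rw [map_commutator]
    exact commutator_mono (le_normalizer_map K.subtype) (le_normalizer_map K.subtype)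
  have h2 : IsPGroup 2 (⁅N, N⁆ : Subgroup K) :=
    (hD.to_le hle).of_equiv (equivMapOfInjective _ K.subtype K.subtype_injective).symm
  have h3 : IsPGroup 2 (⁅(⊤ : Subgroup (Equiv.Perm (Fin 4))), (⊤ : Subgroup (Equiv.Perm (Fin 4)))⁆ : Subgroup (Equiv.Perm (Fin 4))) := by
    rw [← hNf, ← map_commutator]; exact h2.map f
  let x : Equiv.Perm (Fin 4) := Equiv.swap 0 1 * Equiv.swap 1 2
  have hx : x ∈ (⁅(⊤ : Subgroup (Equiv.Perm (Fin 4))), (⊤ : Subgroup (Equiv.Perm (Fin 4)))⁆ : Subgroup (Equiv.Perm (Fin 4))) := by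
    have : x = ⁅Equiv.swap (0 : Fin 4) 1, Equiv.swap (1 : Fin 4) 2⁆⁻¹ ∨
        x = ⁅Equiv.swap (0 : Fin 4) 1, Equiv.swap (1 : Fin 4) 2⁆ := by
      rw [commutatorElement_def]; decide +kernel
    rcases this with e | e <;> rw [e]
    · exact inv_mem (commutator_mem_commutator (mem_top _) (mem_top _))
    · exact commutator_mem_commutator (mem_top _) (mem_top _)
  obtain ⟨k, hk⟩ := h3 ⟨x, hx⟩
  have hk' : x ^ 2 ^ k = 1 := congrArg Subtype.val hk
  have h3o : orderOf x = 3 := orderOf_eq_prime (by decide +kernel) (by decide +kernel)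
  have hdvd := orderOf_dvd_of_pow_eq_one hk'
  rw [h3o] at hdvd
  have := Nat.prime_three.dvd_of_dvd_pow hdvd
  omega

/-- An element of order `3` inverted by a `2`-element gives a section `S₃`. -/
theorem involves_three_of_inverted {y z : G} (hy : orderOf y = 3)
    (hz : ∃ k, orderOf z = 2 ^ k) (hinv : z * y * z⁻¹ = y⁻¹) :
    Involves (Equiv.Perm (Fin 3)) G := by
  obtain ⟨e⟩ := CfsgLib.OutPOmega.perm_three_equiv
  haveI : Fact (Nat.Prime 3) := ⟨Nat.prime_three⟩
  exact CfsgLib.ConjFunctor.involves_trans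
    (CfsgLib.LocalEven.involves_dihedral_of_inverted (p := 3) (by norm_num) hy hz hinv)
    (CfsgLib.ConjFunctor.involves_equiv e)

/-- A section `S₃` yields an element of order `3` inverted by a `2`-element. -/
theorem exists_inverted_of_involves_three (h : Involves (Equiv.Perm (Fin 3)) G) :
    ∃ y z : G, orderOf y = 3 ∧ (∃ k, orderOf z = 2 ^ k) ∧ z * y * z⁻¹ = y⁻¹ := by
  classical
  haveI : Fact (Nat.Prime 3) := ⟨Nat.prime_three⟩
  obtain ⟨K, f, hf⟩ := CfsgLib.LocalEven.exists_surjective_of_involves' h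
  let r : Equiv.Perm (Fin 3) := Equiv.swap 0 1 * Equiv.swap 1 2
  let s : Equiv.Perm (Fin 3) := Equiv.swap 0 1
  have hr : orderOf r = 3 := orderOf_eq_prime (by decide) (by decide)
  have hn : ∀ g : Equiv.Perm (Fin 3), g * r * g⁻¹ ∈ zpowers r := by
    have hn' : ∀ g : Equiv.Perm (Fin 3), g * r * g⁻¹ = r ∨ g * r * g⁻¹ = r * r := by decide
    intro g
    rcases hn' g with e | e <;> rw [e]
    exacts [mem_zpowers r, mul_mem (mem_zpowers r) (mem_zpowers r)]
  obtain ⟨x, P, ⟨k, hk⟩, hP, hxP, u, hu, hne⟩ := CfsgLib.LocalEven.exists_twisted_of_surjective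
    (p := 3) (by norm_num) hf hr (show s * s = 1 by decide) (show s * r * s⁻¹ = r⁻¹ by decide) hn
  have hu1 : u⁻¹ * x * u * x⁻¹ ∉ (⊥ : Subgroup K) := fun e => hne (by rw [mem_bot.1 e, map_one])
  obtain ⟨z, hz, y, hy, hy1, hzy⟩ := CfsgLib.LocalEven.exists_inverted_not_mem (p := 3)
    (by norm_num) hP ⟨k, hk⟩ hxP (by rw [normalizer_eq_top]; exact mem_top x) ⟨u, hu, hu1⟩
  obtain ⟨j, hj⟩ := IsPGroup.iff_orderOf.1 hP ⟨y, hy⟩
  rw [orderOf_mk] at hj
  have hj0 : j ≠ 0 := fun e => hy1 (by
    rw [e, pow_zero, orderOf_eq_one_iff] at hj; exact mem_bot.2 hj)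
  obtain ⟨i, rfl⟩ : ∃ i, j = i + 1 := ⟨j - 1, by omega⟩
  refine ⟨((y ^ 3 ^ i : K) : G), (z : G), ?_, ?_, ?_⟩
  · rw [Subgroup.orderOf_coe, orderOf_pow' _ (pow_ne_zero _ (by norm_num)), hj,
      Nat.gcd_eq_right (pow_dvd_pow 3 (Nat.le_succ i)), pow_succ,
      Nat.mul_div_cancel_left _ (pow_pos (by norm_num) i)]
  · obtain ⟨i', hi'⟩ := CfsgLib.LocalEven.exists_orderOf_eq_pow_of_mem_zpowers hz hk
    exact ⟨i', by rw [Subgroup.orderOf_coe, hi']⟩
  · rw [← Subgroup.coe_inv, ← Subgroup.coe_mul, ← Subgroup.coe_mul, ← conj_pow, hzy, inv_pow]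
    rfl

end CfsgLib.GoldschmidtS4
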