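import Cfsg.Agent.GoldschmidtS4.Basic
import Cfsg.Agent.UThreeSylow.Basic

/-!
# `PSU₃(2ⁿ)` involves `S₃` and does not involve `S₄`

The fixed space of a nontrivial `2`-subgroup `P` has a radical, which is an isotropic line fixed by
the normaliser; modulo a `2`-group the stabiliser of that line is abelian.
-/

set_option autoImplicit false
set_option linter.style.haveILetI false
set_option linter.unusedSectionVars false

namespace CfsgLib.GoldschmidtS4

open Cfsg Subgroup Matrix
open CfsgLib.UThreeSylow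
open scoped commutatorElement

variable {F : Type*} [Field F] [Fintype F] {n q : ℕ}

local notation "hf" => Cfsg.hermForm 3 F q

theorem herm_add_left (u v w : Fin 3 → F) : hf (u + v) w = hf u w + hf v w := by
  simp [Cfsg.hermForm, add_mul, Finset.sum_add_distrib]

theorem herm_smul_left (c : F) (u w : Fin 3 → F) : hf (c • u) w = c * hf u w := by
  simp [Cfsg.hermForm, mul_assoc, Finset.mul_sum]

theorem herm_add_right (h : Good F n q) (u v w : Fin 3 → F) :
    hf u (v + w) = hf u v + hf u w := by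
  simp [Cfsg.hermForm, h.conj_add, mul_add, Finset.sum_add_distrib]

theorem herm_smul_right (c : F) (u w : Fin 3 → F) : hf u (c • w) = c ^ q * hf u w := by
  simp [Cfsg.hermForm, mul_pow, Finset.mul_sum, mul_left_comm]

theorem herm_zero_right (h : Good F n q) (u : Fin 3 → F) : hf u 0 = 0 := by
  simp [Cfsg.hermForm, zero_pow (show q ≠ 0 by have := h.two_le; omega)]

theorem herm_swap (h : Good F n q) (u v : Fin 3 → F) : hf v u = (hf u v) ^ q := by
  simp [Cfsg.hermForm, Fin.sum_univ_three, h.conj_add, mul_pow, h.conj_conj, mul_comm]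

/-- The matrix of an element. -/
def mat (g : Cfsg.SU 3 F q) : Matrix (Fin 3) (Fin 3) F := g.1.1

theorem mat_one : mat (1 : Cfsg.SU 3 F q) = 1 := rfl

theorem mat_mul (g k : Cfsg.SU 3 F q) : mat (g * k) = mat g * mat k := rfl

theorem herm_mat (g : Cfsg.SU 3 F q) (u v : Fin 3 → F) :
    hf (mat g *ᵥ u) (mat g *ᵥ v) = hf u v := g.2 u v

theorem mat_inj {g k : Cfsg.SU 3 F q} (e : mat g = mat k) : g = k := Subtype.ext (Subtype.ext e)

/-- The radical of the fixed space of a subgroup. -/
def fixRad (h : Good F n q) (P : Subgroup (Cfsg.SU 3 F q)) : Submodule F (Fin 3 → F) where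
  carrier := {x | (∀ p ∈ P, mat p *ᵥ x = x) ∧
    ∀ y : Fin 3 → F, (∀ p ∈ P, mat p *ᵥ y = y) → hf y x = 0}
  zero_mem' := ⟨fun p _ => mulVec_zero _, fun y _ => herm_zero_right h y⟩
  add_mem' := fun {a b} ha hb => ⟨fun p hp => by rw [mulVec_add, ha.1 p hp, hb.1 p hp],
    fun y hy => by rw [herm_add_right h, ha.2 y hy, hb.2 y hy, add_zero]⟩
  smul_mem' := fun c {a} ha => ⟨fun p hp => by rw [mulVec_smul, ha.1 p hp],
    fun y hy => by rw [herm_smul_right, ha.2 y hy, mul_zero]⟩

theorem mem_fixRad {h : Good F n q} {P : Subgroup (Cfsg.SU 3 F q)} {x : Fin 3 → F} :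
    x ∈ fixRad h P ↔ (∀ p ∈ P, mat p *ᵥ x = x) ∧
      ∀ y : Fin 3 → F, (∀ p ∈ P, mat p *ᵥ y = y) → hf y x = 0 := Iff.rfl

theorem fixRad_ne_bot (h : Good F n q) {P : Subgroup (Cfsg.SU 3 F q)} (hP : IsPGroup 2 P)
    (hP1 : P ≠ ⊥) : fixRad h P ≠ ⊥ := by
  classical
  intro hb
  haveI : Fact (Nat.Prime 2) := ⟨Nat.prime_two⟩
  haveI := h.charP
  let Fix : Submodule F (Fin 3 → F) :=
    { carrier := {y | ∀ p ∈ P, mat p *ᵥ y = y}
      zero_mem' := fun p _ => mulVec_zero _
      add_mem' := fun {a b} ha hb p hp => by rw [mulVec_add, ha p hp, hb p hp]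
      smul_mem' := fun c {a} ha p hp => by rw [mulVec_smul, ha p hp] }
  -- the orthogonal complement of the fixed space
  let W : Submodule F (Fin 3 → F) :=
    { carrier := {x | ∀ y ∈ Fix, hf x y = 0}
      zero_mem' := fun y _ => by simp [Cfsg.hermForm]
      add_mem' := fun {a b} ha hb y hy => by rw [herm_add_left, ha y hy, hb y hy, add_zero]
      smul_mem' := fun c {a} ha y hy => by rw [herm_smul_left, ha y hy, mul_zero] }
  have hWinv : ∀ p ∈ P, ∀ x ∈ W, mat p *ᵥ x ∈ W := fun p hp x hx y hy => by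
    rw [← hy p hp, herm_mat, hx y hy]
  letI : MulAction P W :=
    { smul := fun p x => ⟨mat p.1 *ᵥ x.1, hWinv p.1 p.2 x.1 x.2⟩
      one_smul := fun x => Subtype.ext (one_mulVec _)
      mul_smul := fun a b x => Subtype.ext
        (show mat (a.1 * b.1) *ᵥ x.1 = mat a.1 *ᵥ (mat b.1 *ᵥ x.1) by
          rw [mat_mul, mulVec_mulVec]) }
  have hW : W = ⊥ := by
    by_contra hW
    haveI : Nontrivial W := Submodule.nontrivial_iff_ne_bot.2 hW
    have h2 : 2 ∣ Nat.card W := by
      rw [Module.natCard_eq_pow_finrank (K := F), Nat.card_eq_fintype_card, h.card_eq, h.q_eq, ← pow_mul]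
      refine dvd_trans ?_ (dvd_pow_self _ (mul_ne_zero two_ne_zero (Module.finrank_pos (R := F) (M := W)).ne'))
      exact dvd_pow_self 2 (by have := h.n_pos; omega)
    obtain ⟨⟨x, hxW⟩, hx, hne⟩ := hP.exists_fixed_point_of_prime_dvd_card_of_fixed_point W h2
      (a := 0) (fun p => Subtype.ext (show mat p.1 *ᵥ (0 : Fin 3 → F) = 0 from mulVec_zero _))
    refine hne (Subtype.ext ?_)
    have hfix : ∀ p ∈ P, mat p *ᵥ x = x := fun p hp => congrArg Subtype.val (hx ⟨p, hp⟩)
    have : x ∈ fixRad h P := ⟨hfix, fun y hy => by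
      rw [herm_swap h, hxW y hy, zero_pow (show q ≠ 0 by have := h.two_le; omega)]⟩
    rw [hb] at this
    exact ((Submodule.mem_bot F).1 this).symm
  refine hP1 ((Subgroup.eq_bot_iff_forall P).2 fun p hp => mat_inj ?_)
  -- so the fixed space is everything
  have htop : Fix = ⊤ := by
    let b := Module.finBasis F Fix
    let Φ : (Fin 3 → F) →ₗ[F] (Fin (Module.finrank F Fix) → F) :=
      { toFun := fun x i => hf x (b i : Fin 3 → F)
        map_add' := fun x y => funext fun i => herm_add_left x y _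
        map_smul' := fun c x => funext fun i => herm_smul_left c x _ }
    have hker : LinearMap.ker Φ ≤ W := by
      intro x hx y hy
      have hx' : ∀ i, hf x (b i : Fin 3 → F) = 0 := fun i => congrFun hx i
      let ψ : (Fin 3 → F) →+ F :=
        { toFun := fun z => hf x z
          map_zero' := herm_zero_right h x
          map_add' := herm_add_right h x }
      have : y = ((∑ i, b.repr ⟨y, hy⟩ i • b i : Fix) : Fin 3 → F) := by rw [b.sum_repr]
      rw [this]
      simp only [Submodule.coe_sum, Submodule.coe_smul]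
      show ψ _ = 0
      rw [map_sum]
      refine Finset.sum_eq_zero fun i _ => ?_
      show hf x _ = 0
      rw [herm_smul_right, hx', mul_zero]
    have hrank := Φ.finrank_range_add_finrank_ker
    rw [le_bot_iff.1 (hker.trans hW.le), finrank_bot, add_zero, Module.finrank_fin_fun] at hrank
    refine Submodule.eq_top_of_finrank_eq (le_antisymm (Submodule.finrank_le Fix) ?_)
    rw [Module.finrank_fin_fun]
    exact hrank.ge.trans ((Submodule.finrank_le _).trans (le_of_eq (Module.finrank_fin_fun F)))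
  rw [mat_one]
  refine Matrix.toLin'.injective (LinearMap.ext fun y => ?_)
  rw [Matrix.toLin'_apply, Matrix.toLin'_one, LinearMap.id_apply]
  exact (htop ▸ Submodule.mem_top : y ∈ Fix) p hp

/-- A totally isotropic subspace is at most a line. -/
theorem exists_smul_eq_of_isotropic (h : Good F n q) (R : Submodule F (Fin 3 → F))
    (hR : ∀ x ∈ R, ∀ y ∈ R, hf x y = 0) {u : Fin 3 → F} (hu : u ∈ R) (hu0 : u ≠ 0)
    {v : Fin 3 → F} (hv : v ∈ R) : ∃ c : F, c • u = v := by
  have hq0 : q + 1 ≠ 0 := Nat.succ_ne_zero q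
  -- a member of `R` with two coordinates zero is zero
  have two : ∀ x ∈ R, ∀ i j k : Fin 3, i ≠ j → i ≠ k → j ≠ k → x i = 0 → x j = 0 → x = 0 := by
    intro x hx i j k hij hik hjk hi hj
    have hsum := hR x hx x hx
    rw [Cfsg.hermForm, Finset.sum_eq_single k (fun l _ hl => by
      have : l = i ∨ l = j := by omega
      rcases this with rfl | rfl <;> simp [hi, hj]) (by simp)] at hsum
    have hk : x k = 0 := by
      rw [← pow_succ'] at hsum; exact pow_eq_zero_iff hq0 |>.1 hsum
    funext l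
    have : l = i ∨ l = j ∨ l = k := by omega
    rcases this with rfl | rfl | rfl <;> simpa
  -- a member of `R` with a zero coordinate is zero
  have one : ∀ x ∈ R, ∀ i : Fin 3, x i = 0 → u i ≠ 0 → x = 0 := by
    intro x hx i hi hui
    obtain ⟨j, k, hij, hik, hjk⟩ : ∃ j k : Fin 3, i ≠ j ∧ i ≠ k ∧ j ≠ k :=
      (by decide : ∀ i : Fin 3, ∃ j k : Fin 3, i ≠ j ∧ i ≠ k ∧ j ≠ k) i
    by_contra hx0
    have hxj : x j ≠ 0 := fun e => hx0 (two x hx i j k hij hik hjk hi e)
    -- make the `j`-coordinate of a combination vanish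
    set y := x j • u - u j • x with hy
    have hyR : y ∈ R := R.sub_mem (R.smul_mem _ hu) (R.smul_mem _ hx)
    have hyj : y j = 0 := by simp [hy, mul_comm]
    have hyi : y i ≠ 0 := by simp [hy, hi, hui, hxj]
    have hxy := hR x hx y hyR
    have hqz : q ≠ 0 := by have := h.two_le; omega
    rw [Cfsg.hermForm, Finset.sum_eq_single k (fun l _ hl => by
      have : l = i ∨ l = j := by omega
      rcases this with rfl | rfl <;> simp [hi, hyj, hqz]) (by simp)] at hxy
    rcases mul_eq_zero.1 hxy with e | e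
    · exact hxj (by rw [two x hx i k j hik hij hjk.symm hi e]; rfl)
    · exact hyi (by rw [two y hyR j k i hjk hij.symm hik.symm hyj (pow_eq_zero_iff hqz |>.1 e)]; rfl)
  obtain ⟨i, hi⟩ := Function.ne_iff.1 hu0
  refine ⟨v i / u i, ?_⟩
  have := one (v - (v i / u i) • u) (R.sub_mem hv (R.smul_mem _ hu)) i
    (by simp at hi; simp [div_mul_cancel₀ _ hi]) hi
  exact (sub_eq_zero.1 this).symm

/-- A member of `SU₃(2ⁿ)` fixing an isotropic vector has order dividing `4`. -/
theorem pow_four_eq_one (h : Good F n q) {e : Fin 3 → F} (he : hf e e = 0) (he0 : e ≠ 0)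
    {g : Cfsg.SU 3 F q} (hg : mat g *ᵥ e = e) : g ^ 4 = 1 := by
  classical
  haveI := h.charP
  have hq0 : q ≠ 0 := by have := h.two_le; omega
  let ω : (Fin 3 → F) →ₗ[F] F :=
    { toFun := fun x => hf x e
      map_add' := fun x y => herm_add_left x y e
      map_smul' := fun c x => herm_smul_left c x e }
  have hω : ∀ x, ω (mat g *ᵥ x) = ω x := fun x => by
    have := herm_mat g x e
    rwa [hg] at this
  have hω0 : ω ≠ 0 := fun e0 => by
    obtain ⟨i, hi⟩ := Function.ne_iff.1 he0
    have := LinearMap.congr_fun e0 (Pi.single i 1)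
    simp [ω, Cfsg.hermForm, Pi.single_apply, pow_eq_zero_iff hq0] at this
    exact hi this
  have hrk := ω.finrank_range_add_finrank_ker
  rw [LinearMap.range_eq_top.2 (LinearMap.surjective hω0), finrank_top, Module.finrank_self,
    Module.finrank_fin_fun] at hrk
  obtain ⟨f, hfk, hfe⟩ : ∃ f, ω f = 0 ∧ f ∉ Submodule.span F ({e} : Set (Fin 3 → F)) := by
    by_contra hc
    push Not at hc
    have hle : LinearMap.ker ω ≤ Submodule.span F ({e} : Set (Fin 3 → F)) := fun x hx => hc x hx
    have := Submodule.finrank_mono hle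
    rw [finrank_span_singleton he0] at this
    omega
  obtain ⟨w, hw⟩ : ∃ w, ω w ≠ 0 := by
    by_contra hc
    push Not at hc
    exact hω0 (LinearMap.ext hc)
  have hli : LinearIndependent F ![e, f, w] := by
    rw [Fintype.linearIndependent_iff]
    intro c hc
    simp [Fin.sum_univ_three] at hc
    have h2 : c 2 = 0 := by
      have := congrArg ω hc
      rw [map_add, map_add, map_smul, map_smul, map_smul, map_zero, hfk,
        show ω e = 0 from he] at this
      simpa [hw] using this
    rw [h2, zero_smul, add_zero] at hc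
    have h1 : c 1 = 0 := by
      by_contra h1
      refine hfe (Submodule.mem_span_singleton.2 ⟨-(c 0 / c 1), ?_⟩)
      rw [add_eq_zero_iff_eq_neg] at hc
      rw [neg_smul, div_eq_inv_mul, mul_smul, hc, smul_neg, neg_neg, inv_smul_smul₀ h1]
    rw [h1, zero_smul, add_zero] at hc
    intro i
    fin_cases i
    · exact (smul_eq_zero.1 hc).resolve_right he0
    · exact h1
    · exact h2
  let B := basisOfLinearIndependentOfCardEqFinrank hli (by simp)
  have hB : (B : Fin 3 → (Fin 3 → F)) = ![e, f, w] :=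
    coe_basisOfLinearIndependentOfCardEqFinrank _ _
  set T := Matrix.toLin' (mat g)
  set A := LinearMap.toMatrix B B T with hA
  have hcoord : ∀ x, ω x = B.repr x 2 * ω w := fun x => by
    conv_lhs => rw [← B.sum_repr x]
    simp [Fin.sum_univ_three, hB, hfk, show ω e = 0 from he]
  have hA0 : ∀ i, A i 0 = if i = 0 then 1 else 0 := fun i => by
    have hTe : T (B 0) = B 0 := by rw [hB, Matrix.toLin'_apply]; exact hg
    rw [hA, LinearMap.toMatrix_apply, hTe, B.repr_self, Finsupp.single_apply]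
    simp [eq_comm]
  have hA21 : A 2 1 = 0 := by
    have := hcoord (T (B 1))
    rw [show ω (T (B 1)) = 0 by rw [hB, Matrix.toLin'_apply, hω]; exact hfk] at this
    rw [hA, LinearMap.toMatrix_apply]
    exact (mul_eq_zero.1 this.symm).resolve_right hw
  have hA22 : A 2 2 = 1 := by
    have := hcoord (T (B 2))
    rw [show ω (T (B 2)) = ω w by rw [hB, Matrix.toLin'_apply, hω]; rfl] at this
    rw [hA, LinearMap.toMatrix_apply]
    exact mul_right_cancel₀ hw (this.symm.trans (one_mul _).symm)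
  have hdet : A.det = 1 := by
    rw [hA, LinearMap.det_toMatrix, LinearMap.det_toLin']
    exact g.1.2
  have hA11 : A 1 1 = 1 := by
    rw [Matrix.det_fin_three, hA0 0, hA0 1, hA0 2, hA21, hA22] at hdet
    simpa using hdet
  have h4 : A ^ 4 = 1 := by
    have hcube : (A - 1) * (A - 1) * (A - 1) = 0 := by
      ext i j
      fin_cases i <;> fin_cases j <;>
        simp [Matrix.mul_apply, Fin.sum_univ_three, Matrix.sub_apply, hA0, hA11, hA21, hA22]
    haveI : Fact (Nat.Prime 2) := ⟨Nat.prime_two⟩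
    have e4 := sub_pow_char_pow_of_commute (p := 2) (n := 2) (Commute.one_right A)
    rw [show (2 : ℕ) ^ 2 = 3 + 1 from rfl, pow_succ, one_pow, pow_three', hcube, zero_mul] at e4
    exact sub_eq_zero.1 e4.symm
  refine mat_inj ?_
  have hpow : ∀ k : ℕ, mat (g ^ k) = mat g ^ k := fun k => by
    induction k with
    | zero => simp [mat_one]
    | succ k ih => rw [pow_succ, pow_succ, mat_mul, ih]
  rw [hpow, mat_one]
  have hT : T ^ 4 = 1 := by
    have := congrArg (Matrix.toLinAlgEquiv B) h4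
    rw [map_pow, map_one] at this
    rwa [show Matrix.toLinAlgEquiv B A = T from Matrix.toLin_toMatrix B B T] at this
  have := congrArg Matrix.toLinAlgEquiv'.symm hT
  rw [map_pow, map_one, show T = Matrix.toLinAlgEquiv' (mat g) from rfl,
    AlgEquiv.symm_apply_apply] at this
  exact this

theorem not_involves_four_su (h : Good F n q) :
    ¬ Involves (Equiv.Perm (Fin 4)) (Cfsg.SU 3 F q) := by
  classical
  refine not_involves_four_of_normalizer fun P hP hP1 => ?_
  set R := fixRad h P
  obtain ⟨e, heR, he0⟩ := R.ne_bot_iff.1 (fixRad_ne_bot h hP hP1)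
  have hiso : ∀ x ∈ R, ∀ y ∈ R, hf x y = 0 := fun x hx y hy => (mem_fixRad.1 hy).2 x hx.1
  have hstab : ∀ k ∈ normalizer (P : Set (Cfsg.SU 3 F q)), ∃ c : F, mat k *ᵥ e = c • e := by
    intro k hk
    have hfixk : ∀ {g : Cfsg.SU 3 F q}, g ∈ normalizer (P : Set (Cfsg.SU 3 F q)) →
        ∀ {y : Fin 3 → F}, (∀ p ∈ P, mat p *ᵥ y = y) → ∀ p ∈ P,
          mat p *ᵥ (mat g *ᵥ y) = mat g *ᵥ y := by
      intro g hg y hy p hp
      have : g⁻¹ * p * g ∈ P := (mem_normalizer_iff''.1 hg p).1 hp
      conv_rhs => rw [← hy _ this]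
      rw [mulVec_mulVec, mulVec_mulVec, ← mat_mul, ← mat_mul]
      congr 2
      group
    have hmem : mat k *ᵥ e ∈ R := by
      refine mem_fixRad.2 ⟨hfixk hk heR.1, fun y hy => ?_⟩
      rw [show y = mat k *ᵥ (mat k⁻¹ *ᵥ y) by
        rw [mulVec_mulVec, ← mat_mul, mul_inv_cancel, mat_one, one_mulVec], herm_mat]
      exact heR.2 _ (hfixk (inv_mem hk) hy)
    obtain ⟨c, hc⟩ := exists_smul_eq_of_isotropic h R hiso heR he0 hmem
    exact ⟨c, hc.symm⟩
  have hc0 : ∀ {k : Cfsg.SU 3 F q} {c : F}, mat k *ᵥ e = c • e → c ≠ 0 := by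
    intro k c hk e0
    rw [e0, zero_smul] at hk
    apply he0
    rw [← one_mulVec e, ← mat_one, ← inv_mul_cancel k, mat_mul, ← mulVec_mulVec, hk, mulVec_zero]
  have hinv : ∀ {k : Cfsg.SU 3 F q} {c : F}, mat k *ᵥ e = c • e → mat k⁻¹ *ᵥ e = c⁻¹ • e := by
    intro k c hk
    calc mat k⁻¹ *ᵥ e = mat k⁻¹ *ᵥ (c⁻¹ • (c • e)) := by rw [inv_smul_smul₀ (hc0 hk)]
      _ = c⁻¹ • e := by
          rw [← hk, mulVec_smul, mulVec_mulVec, ← mat_mul, inv_mul_cancel, mat_one, one_mulVec]
  have hle : ⁅normalizer (P : Set (Cfsg.SU 3 F q)), normalizer (P : Set (Cfsg.SU 3 F q))⁆ ≤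
      { carrier := {g | mat g *ᵥ e = e}
        one_mem' := by simp [mat_one]
        mul_mem' := fun {a b} ha hb => by
          show mat (a * b) *ᵥ e = e
          rw [mat_mul, ← mulVec_mulVec, hb, ha]
        inv_mem' := fun {a} ha => by
          have := hinv (c := 1) (k := a) (by rw [one_smul]; exact ha)
          simpa using this : Subgroup (Cfsg.SU 3 F q) } := by
    rw [commutator_le]
    intro a ha b hb
    obtain ⟨s, hs⟩ := hstab a ha
    obtain ⟨t, ht⟩ := hstab b hb
    show mat ⁅a, b⁆ *ᵥ e = e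
    rw [commutatorElement_def, mat_mul, mat_mul, mat_mul, ← mulVec_mulVec, hinv ht, mulVec_smul,
      ← mulVec_mulVec, hinv hs, mulVec_smul, ← mulVec_mulVec, ht, mulVec_smul, hs, smul_smul,
      smul_smul, smul_smul, show t⁻¹ * s⁻¹ * t * s = (t⁻¹ * t) * (s⁻¹ * s) by ring,
      inv_mul_cancel₀ (hc0 ht), inv_mul_cancel₀ (hc0 hs), one_mul, one_smul]
  intro g
  exact ⟨2, Subtype.ext (pow_four_eq_one h (hiso e heR e heR) he0 (hle g.2))⟩

theorem not_involves_four_psu (h : Good F n q) :
    ¬ Involves (Equiv.Perm (Fin 4)) (Cfsg.PSU 3 F q) := fun hI =>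
  not_involves_four_su h (CfsgLib.ConjFunctor.involves_trans
    (CfsgLib.ConjFunctor.involves_quotient (Subgroup.center (Cfsg.SU 3 F q))) hI)

theorem involves_three_psu (h : Good F n q) :
    Involves (Equiv.Perm (Fin 3)) (Cfsg.PSU 3 F q) := by
  classical
  haveI := h.charP
  haveI : Fact (Nat.Prime 3) := ⟨Nat.prime_three⟩
  haveI : Fact (Nat.Prime 2) := ⟨Nat.prime_two⟩
  let perm : Equiv.Perm (Fin 3) →* Cfsg.SU 3 F q :=
    { toFun := fun σ => ⟨⟨σ⁻¹.permMatrix F, by
          rw [Matrix.det_permutation]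
          rcases Int.units_eq_one_or (Equiv.Perm.sign σ⁻¹) with e | e <;>
            simp [e, CharTwo.neg_eq]⟩, fun u v => by
        show Cfsg.hermForm 3 F q (σ⁻¹.permMatrix F *ᵥ u) (σ⁻¹.permMatrix F *ᵥ v) = _
        rw [Matrix.permMatrix_mulVec, Matrix.permMatrix_mulVec]
        exact Equiv.sum_comp σ⁻¹ (fun i => u i * v i ^ q)⟩
      map_one' := Subtype.ext (Subtype.ext (by simp))
      map_mul' := fun σ τ => Subtype.ext (Subtype.ext (by
        show (σ * τ)⁻¹.permMatrix F = σ⁻¹.permMatrix F * τ⁻¹.permMatrix F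
        rw [← Matrix.permMatrix_mul, _root_.mul_inv_rev])) }
  have hpi : Function.Injective perm := by
    intro σ τ e
    have e' : σ⁻¹.permMatrix F = τ⁻¹.permMatrix F := congrArg (fun g => mat g) e
    refine inv_injective (Equiv.ext fun i => ?_)
    have := congrFun (congrFun e' i) (τ⁻¹ i)
    simp [Equiv.Perm.permMatrix, PEquiv.toMatrix_apply, eq_comm] at this
    simpa using this
  let π := QuotientGroup.mk' (Subgroup.center (Cfsg.SU 3 F q))
  let y : Equiv.Perm (Fin 3) := Equiv.swap 0 1 * Equiv.swap 1 2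
  let z : Equiv.Perm (Fin 3) := Equiv.swap 0 1
  refine involves_three_of_inverted (y := π (perm y)) (z := π (perm z))
    (orderOf_eq_prime ?_ ?_) ?_ ?_
  · rw [← map_pow, ← map_pow, show y ^ 3 = 1 by decide, map_one, map_one]
  · intro e
    have hc := Subgroup.mem_center_iff.1 ((QuotientGroup.eq_one_iff _).1 e) (perm z)
    rw [← map_mul, ← map_mul] at hc
    exact absurd (hpi hc) (by decide)
  · obtain ⟨i, -, hi⟩ := (Nat.dvd_prime_pow Nat.prime_two).1
      (show orderOf (π (perm z)) ∣ 2 ^ 1 from orderOf_dvd_of_pow_eq_one (by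
        rw [← map_pow, ← map_pow, show z ^ 2 ^ 1 = 1 by decide, map_one, map_one]))
    exact ⟨i, hi⟩
  · rw [← map_inv, ← map_inv, ← map_mul, ← map_mul, ← map_inv, ← map_inv, ← map_mul, ← map_mul,
      show z * y * z⁻¹ = y⁻¹ by decide]

end CfsgLib.GoldschmidtS4
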