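import Cfsg.Agent.GoldschmidtS4.Linear
import Cfsg.Agent.GoldschmidtS4.Unitary
import Cfsg.Agent.J1Centralizer.Basic
import Cfsg.Agent.LocalEven.OffenderBound.Hyp
import Cfsg.Agent.Suzuki.Tori

/-!
# The members of `IsGoldschmidtGroup`: `S₄`-freeness and the criterion for `S₃`
-/

set_option autoImplicit false
set_option linter.style.haveILetI false
set_option linter.unusedSectionVars false

namespace CfsgLib.GoldschmidtS4

open Cfsg Subgroup
open scoped MatrixGroups

variable {G : Type*} [Group G] [Finite G]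

theorem involves_iff_of_equiv {H X : Type*} [Group H] [Group X] (e : G ≃* H) :
    Involves X G ↔ Involves X H :=
  ⟨fun h => CfsgLib.ConjFunctor.involves_trans (CfsgLib.ConjFunctor.involves_equiv e.symm) h,
    fun h => CfsgLib.ConjFunctor.involves_trans (CfsgLib.ConjFunctor.involves_equiv e) h⟩

theorem suzuki_free (h : Cfsg.Lie.IsoSuzuki G) :
    ¬ Involves (Equiv.Perm (Fin 4)) G ∧ ¬ Involves (Equiv.Perm (Fin 3)) G := by
  obtain ⟨F, iF, iF', m, hm, hcard, ⟨e⟩⟩ := h
  have hS : CfsgLib.Suzuki.SzField F m := ⟨hm, hcard⟩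
  refine not_involves_of_not_three_dvd ?_
  rw [Nat.card_congr (e.trans (CfsgLib.Suzuki.lieSzEquiv hS).symm).toEquiv]
  exact CfsgLib.Suzuki.three_not_dvd hS

theorem abelTwo_reeType (h : IsReeType G) : AbelTwo G := by
  obtain ⟨-, -, t, K, n, hn, ht, hodd, ⟨hle1, hle2, hcomm, hinf, hsup⟩, F, iF, iF', hF, ⟨e⟩⟩ := h
  refine AbelTwo.of_odd_index ?_ hodd
  have hK : AbelTwo K := (abelTwo_psl_three_five (F := F) (Or.inl (by
    rw [hF, Nat.pow_mod, pow_succ, pow_mul]; norm_num [Nat.mul_mod, Nat.pow_mod]))).of_injective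
    e.toMonoidHom e.injective
  let φ : Subgroup.zpowers t × K →* G :=
    (Subgroup.zpowers t).subtype.noncommCoprod K.subtype
      (fun a b => show Commute ((Subgroup.zpowers t).subtype a) (K.subtype b) from
        hcomm a.1 a.2 b.1 b.2)
  have hφ : Function.Injective φ := by
    rw [injective_iff_map_eq_one]
    rintro ⟨a, b⟩ hab
    have hab' : (a : G) * (b : G) = 1 := hab
    have ha : (a : G) ∈ Subgroup.zpowers t ⊓ K :=
      Subgroup.mem_inf.2 ⟨a.2, by rw [eq_inv_of_mul_eq_one_left hab']; exact K.inv_mem b.2⟩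
    rw [hinf, mem_bot] at ha
    rw [ha, one_mul] at hab'
    exact Prod.ext (Subtype.ext ha) (Subtype.ext hab')
  have hr : φ.range = Subgroup.centralizer ({t} : Set G) := by
    refine (MonoidHom.noncommCoprod_range _ _ _).trans ?_
    rw [Subgroup.range_subtype, Subgroup.range_subtype, hsup]
  let ε : Subgroup.zpowers t × K ≃* ↥(Subgroup.centralizer ({t} : Set G)) :=
    (MonoidHom.ofInjective hφ).trans (MulEquiv.subgroupCongr hr)
  exact (abelTwo_two_mul hK).of_injective ε.symm.toMonoidHom ε.symm.injective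

theorem j1_facts : AbelTwo Cfsg.Spor.J1 ∧ Involves (Equiv.Perm (Fin 3)) Cfsg.Spor.J1 := by
  classical
  haveI : Finite Cfsg.Spor.J1 := Nat.finite_of_card_ne_zero (by
    rw [CfsgLib.J1.card_J1]; norm_num)
  obtain ⟨e⟩ := CfsgLib.J1Centralizer.centralizer_equiv
  have hC : Nat.card CfsgLib.J1Centralizer.Cen = 120 := by
    rw [← Nat.card_congr CfsgLib.J1Centralizer.elEquiv, Nat.card_eq_fintype_card, Fintype.card_fin]
  haveI : Fact (Nat.Prime 2) := ⟨Nat.prime_two⟩
  refine ⟨AbelTwo.of_odd_index (C := CfsgLib.J1Centralizer.Cen) ?_ ?_, ?_⟩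
  · refine (abelTwo_two_mul (K := alternatingGroup (Fin 5)) ?_).of_injective
      e.toMonoidHom e.injective
    obtain ⟨P⟩ : Nonempty (Sylow 2 (alternatingGroup (Fin 5))) := inferInstance
    have hP : Nat.card (P : Subgroup (alternatingGroup (Fin 5))) = 2 ^ 2 := by
      rw [P.card_eq_multiplicity, nat_card_alternatingGroup, Nat.card_fin]
      show 2 ^ (60).factorization 2 = 2 ^ 2
      rw [show (60 : ℕ) = 2 ^ 2 * 15 by norm_num, Nat.factorization_mul (by norm_num) (by norm_num),
        Finsupp.add_apply, Nat.factorization_eq_zero_of_not_dvd (show ¬ 2 ∣ 15 by norm_num),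
        Nat.prime_two.factorization_pow, Finsupp.single_eq_same]
    refine abelTwo_of_sylow P fun a ha b hb => ?_
    haveI := IsPGroup.isMulCommutative_of_card_eq_prime_sq hP
    exact congrArg Subtype.val (IsMulCommutative.is_comm.comm
      (⟨a, ha⟩ : (P : Subgroup (alternatingGroup (Fin 5)))) ⟨b, hb⟩)
  · have := CfsgLib.J1Centralizer.Cen.card_mul_index
    rw [hC, CfsgLib.J1.card_J1] at this
    rw [show CfsgLib.J1Centralizer.Cen.index = 1463 by omega]
    decide
  · let ι : alternatingGroup (Fin 5) →* Cfsg.Spor.J1 :=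
      (CfsgLib.J1Centralizer.Cen.subtype.comp e.symm.toMonoidHom).comp
        (MonoidHom.inr (Multiplicative (ZMod 2)) (alternatingGroup (Fin 5)))
    have hι : Function.Injective ι := Subtype.val_injective.comp
      (e.symm.injective.comp fun a b hab => (Prod.mk.injEq _ _ _ _ ▸ hab).2)
    exact CfsgLib.ConjFunctor.involves_trans
      (CfsgLib.ConjFunctor.involves_trans (CfsgLib.ConjFunctor.involves_subgroup ι.range)
        (CfsgLib.ConjFunctor.involves_equiv (MonoidHom.ofInjective hι).symm))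
      CfsgLib.LocalEven.OffenderBound.perm_three_involved_alt_five

/-- The full statement, given that a group of Ree type involves `S₃`. -/
theorem goldschmidt_sections (hRee : IsReeType G → Involves (Equiv.Perm (Fin 3)) G)
    (hG : IsGoldschmidtGroup G) :
    ¬ Involves (Equiv.Perm (Fin 4)) G ∧
      (¬ Involves (Equiv.Perm (Fin 3)) G ↔ IsSuzukiOrPSL2OddPowerThree G) := by
  have back : IsSuzukiOrPSL2OddPowerThree G → ¬ Involves (Equiv.Perm (Fin 3)) G := by
    rintro (h | ⟨F, iF, iF', n, hF, ⟨e⟩⟩)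
    · exact (suzuki_free h).2
    · exact fun h => not_involves_three_psl hF ((involves_iff_of_equiv e).1 h)
  rcases hG with h | ⟨F, iF, iF', n, hn, hF, ⟨e⟩⟩ | h | ⟨F, iF, iF', n, hn, hF, ⟨e⟩⟩ |
    ⟨F, iF, iF', q, hF, hq5, hq, ⟨e⟩⟩ | ⟨⟨e⟩⟩
  · exact ⟨not_involves_four_of_abelTwo (abelTwo_reeType h),
      fun hn => absurd (hRee h) hn, back⟩
  · have hA : AbelTwo G :=
      (abelTwo_psl_even hF (by omega)).of_injective e.toMonoidHom e.injective
    refine ⟨not_involves_four_of_abelTwo hA, fun hn3 => absurd ?_ hn3, back⟩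
    refine (involves_iff_of_equiv e).2 (involves_three_psl (Or.inl ?_))
    haveI : Fact (Nat.Prime 2) := ⟨Nat.prime_two⟩
    haveI : CharP F 2 := charP_of_card_eq_prime_pow hF
    intro h3
    have h1 : (1 : F) = 0 := by linear_combination h3 - (CharTwo.two_eq_zero : (2 : F) = 0)
    exact one_ne_zero h1
  · exact ⟨(suzuki_free h).1, fun _ => Or.inl h, back⟩
  · have hgood : CfsgLib.UThreeSylow.Good F n (2 ^ n) :=
      ⟨rfl, by omega, by rw [hF, ← pow_mul, show (4 : ℕ) = 2 ^ 2 from rfl, ← pow_mul, mul_comm]⟩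
    exact ⟨fun h => not_involves_four_psu hgood ((involves_iff_of_equiv e).1 h),
      fun hn3 => absurd ((involves_iff_of_equiv e).2 (involves_three_psu hgood)) hn3, back⟩
  · subst hF
    refine ⟨not_involves_four_of_abelTwo
      ((abelTwo_psl_three_five hq).of_injective e.toMonoidHom e.injective), fun hn3 => ?_, back⟩
    by_cases h3 : (3 : F) = 0
    · haveI : Fact (Nat.Prime 3) := ⟨Nat.prime_three⟩
      haveI : CharP F 3 := (CharP.charP_iff_prime_eq_zero Nat.prime_three).2 (by exact_mod_cast h3)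
      obtain ⟨k, -, hk⟩ := FiniteField.card F 3
      refine Or.inr ⟨F, iF, iF', (k : ℕ) / 2, ?_, ⟨e⟩⟩
      have hkodd : Odd (k : ℕ) := by
        by_contra hev
        rw [Nat.not_odd_iff_even] at hev
        obtain ⟨j, hj⟩ := hev
        rw [hk, hj, ← two_mul, pow_mul, Nat.pow_mod] at hq
        norm_num at hq
      rw [hk, show 2 * ((k : ℕ) / 2) + 1 = (k : ℕ) from Nat.two_mul_div_two_add_one_of_odd hkodd]
    · exact absurd ((involves_iff_of_equiv e).2 (involves_three_psl (Or.inl h3))) hn3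
  · exact ⟨not_involves_four_of_abelTwo (j1_facts.1.of_injective e.toMonoidHom e.injective),
      fun hn3 => absurd ((involves_iff_of_equiv e).2 j1_facts.2) hn3, back⟩

end CfsgLib.GoldschmidtS4
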