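import Cfsg.Agent.GoldschmidtS4.Basic
import Cfsg.Agent.DicksonPSL2.Borel
import Cfsg.Agent.Linear.SL2Sylow
import Cfsg.Agent.Linear.Basic

/-!
# `PSL₂(q)`: Sylow `2`-subgroups and sections isomorphic to `S₃`
-/

set_option autoImplicit false
set_option linter.style.haveILetI false
set_option linter.unusedSectionVars false

namespace CfsgLib.GoldschmidtS4

open Cfsg Subgroup CfsgLib.DicksonPSL2 CfsgLib.SL2Trace
open scoped MatrixGroups

variable {F : Type*} [Field F] [Fintype F]

theorem abelTwo_psl_three_five (hq : Fintype.card F % 8 = 3 ∨ Fintype.card F % 8 = 5) :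
    AbelTwo PSL(2, F) := by
  haveI : Fact (Nat.Prime 2) := ⟨Nat.prime_two⟩
  obtain ⟨P⟩ : Nonempty (Sylow 2 PSL(2, F)) := inferInstance
  have hP := CfsgLib.Linear.isKleinFour_sylow_PSL_two hq P
  refine abelTwo_of_sylow P fun a ha b hb => ?_
  haveI := hP
  have hsq : ∀ x : (P : Subgroup PSL(2, F)), x * x = 1 := IsKleinFour.mul_self
  have hi : ∀ x : (P : Subgroup PSL(2, F)), x⁻¹ = x := fun x => inv_eq_of_mul_eq_one_right (hsq x)
  have := mul_inv_rev (⟨a, ha⟩ : (P : Subgroup PSL(2, F))) ⟨b, hb⟩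
  rw [hi, hi, hi] at this
  exact congrArg Subtype.val this

theorem abelTwo_psl_even {n : ℕ} (hF : Fintype.card F = 2 ^ n) (hn : n ≠ 0) :
    AbelTwo PSL(2, F) := by
  classical
  haveI : Fact (Nat.Prime 2) := ⟨Nat.prime_two⟩
  let f : Multiplicative F →* PSL(2, F) :=
    { toFun := fun w => u w.toAdd
      map_one' := u_zero
      map_mul' := fun v w => u_add v.toAdd w.toAdd }
  have hf : Function.Injective f := fun v w h => Multiplicative.toAdd.injective (u_injective h)
  have hcard : Nat.card f.range = 2 ^ n := by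
    rw [Nat.card_congr (MonoidHom.ofInjective hf).toEquiv.symm,
      Nat.card_congr Multiplicative.toAdd, Nat.card_eq_fintype_card, hF]
  obtain ⟨P, hP⟩ := (IsPGroup.of_card hcard).exists_le_sylow
  have hev : Even (Fintype.card F) := by rw [hF]; exact (Nat.even_pow.2 ⟨even_two, hn⟩)
  have hodd : ¬ 2 ∣ ((2 ^ n) ^ 2 - 1) := by
    intro hd
    have : (2 ^ n) ^ 2 = 2 ^ (2 * n) := by rw [← pow_mul, mul_comm]
    have h2 : 2 ∣ (2 ^ n) ^ 2 := this ▸ dvd_pow_self 2 (by omega)
    have h0 : 0 < (2 ^ n) ^ 2 := by positivity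
    omega
  have hPQ : (P : Subgroup PSL(2, F)) = f.range := by
    refine (eq_of_le_of_card_ge hP ?_).symm
    rw [hcard, P.card_eq_multiplicity, CfsgLib.Linear.card_PSL_two_even hev, hF,
      Nat.factorization_mul (pow_ne_zero n two_ne_zero) (fun h => hodd (by rw [h]; exact dvd_zero 2)), Finsupp.add_apply,
      Nat.factorization_eq_zero_of_not_dvd hodd, Nat.prime_two.factorization_pow,
      Finsupp.single_eq_same, add_zero]
  refine abelTwo_of_sylow P ?_
  rw [hPQ]
  rintro _ ⟨v, rfl⟩ _ ⟨w, rfl⟩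
  rw [← map_mul, ← map_mul, mul_comm]

/-- `PSL₂(q)` involves `S₃` unless `q` is a power of `3` with `-1` a non-square. -/
theorem involves_three_psl (h : (3 : F) ≠ 0 ∨ IsSquare (-1 : F)) :
    Involves (Equiv.Perm (Fin 3)) PSL(2, F) := by
  classical
  haveI : Fact (Nat.Prime 3) := ⟨Nat.prime_three⟩
  haveI : Fact (Nat.Prime 2) := ⟨Nat.prime_two⟩
  suffices H : ∃ Y Z : SL(2, F), Y ^ 3 = 1 ∧ proj Y ≠ 1 ∧ Z * Z = -1 ∧ Z * Y * Z⁻¹ = Y⁻¹ by
    obtain ⟨Y, Z, h3, h1, hZ, hc⟩ := H
    refine involves_three_of_inverted (y := proj Y) (z := proj Z) (orderOf_eq_prime ?_ h1) ?_ ?_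
    · rw [← projHom_apply, ← map_pow, h3, map_one]
    · have hZ2 : proj Z ^ 2 = 1 := by
        rw [pow_two, ← proj_mul, hZ, proj_neg]; rfl
      obtain ⟨i, -, hi⟩ := (Nat.dvd_prime_pow Nat.prime_two).1
        (show orderOf (proj Z) ∣ 2 ^ 1 from orderOf_dvd_of_pow_eq_one hZ2)
      exact ⟨i, hi⟩
    · rw [← proj_inv, ← proj_mul, ← proj_mul, hc, proj_inv]
  by_cases h3 : (3 : F) = 0
  · -- characteristic `3`
    obtain ⟨i, hi⟩ := h.resolve_left (fun e => e h3)
    let Z : SL(2, F) := ⟨!![i, 0; 0, -i], by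
      rw [Matrix.det_fin_two_of]; linear_combination hi⟩
    refine ⟨upSL 1, Z, ?_, u_ne_one one_ne_zero, ?_, ?_⟩
    · rw [pow_three, ← upSL_add, ← upSL_add, ← upSL_zero]
      exact congrArg upSL (by linear_combination h3)
    · apply Subtype.ext
      rw [Matrix.SpecialLinearGroup.coe_mul]
      ext a b
      fin_cases a <;> fin_cases b <;> simp [Z, Matrix.mul_apply, Fin.sum_univ_two, ← hi]
    · rw [mul_inv_eq_iff_eq_mul]
      apply Subtype.ext
      rw [Matrix.SpecialLinearGroup.coe_mul, Matrix.SpecialLinearGroup.coe_mul,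
        SL2Tori.coe_inv_eq]
      ext a b
      fin_cases a <;> fin_cases b <;>
        simp [Z, coe_upSL, SL2Tori.tr, Matrix.trace_fin_two, Matrix.mul_apply, Fin.sum_univ_two]
  · obtain ⟨a, b, hab⟩ : ∃ a b : F, a ^ 2 + a * b + b ^ 2 = -1 := by
      by_cases h2 : (2 : F) = 0
      · exact ⟨1, 0, by linear_combination h2⟩
      · obtain ⟨x, y, hxy⟩ := FiniteField.exists_root_sum_quadratic
          (f := (Polynomial.X ^ 2 : Polynomial F))
          (g := Polynomial.C (3 : F) * Polynomial.X ^ 2 + Polynomial.C 4)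
          (Polynomial.degree_X_pow 2)
          (by rw [Polynomial.degree_add_C (by
                rw [Polynomial.degree_C_mul_X_pow 2 h3]; exact WithBot.coe_lt_coe.2 two_pos),
              Polynomial.degree_C_mul_X_pow 2 h3]; rfl)
          (by
            rw [← Nat.odd_iff]
            by_contra hev
            rw [Nat.not_odd_iff_even] at hev
            refine h2 ?_
            have := (FiniteField.even_card_iff_char_two (F := F)).2 (Nat.even_iff.1 hev)
            haveI : CharP F 2 := ringChar.of_eq this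
            exact CharTwo.two_eq_zero)
        simp only [Polynomial.eval_add, Polynomial.eval_mul, Polynomial.eval_pow,
          Polynomial.eval_C, Polynomial.eval_X] at hxy
        refine ⟨(x - y) / 2, y, ?_⟩
        field_simp
        linear_combination hxy
    let Y : SL(2, F) := ⟨!![0, -1; 1, -1], by rw [Matrix.det_fin_two_of]; ring⟩
    let Z : SL(2, F) := ⟨!![a, b; a + b, -a], by
      rw [Matrix.det_fin_two_of]; linear_combination -hab⟩
    refine ⟨Y, Z, ?_, ?_, ?_, ?_⟩
    · apply Subtype.ext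
      rw [pow_three, Matrix.SpecialLinearGroup.coe_mul, Matrix.SpecialLinearGroup.coe_mul]
      ext p r
      fin_cases p <;> fin_cases r <;> simp [Y, Matrix.mul_apply, Fin.sum_univ_two]
    · intro e
      rcases (proj_eq_one_iff _).1 e with e | e <;>
        · have := congrArg (fun g : SL(2, F) => g.1 1 0) e
          simp [Y] at this
    · apply Subtype.ext
      rw [Matrix.SpecialLinearGroup.coe_mul]
      ext p r
      fin_cases p <;> fin_cases r <;> simp [Z, Matrix.mul_apply, Fin.sum_univ_two] <;>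
        first
        | ring1
        | linear_combination hab
    · rw [mul_inv_eq_iff_eq_mul]
      apply Subtype.ext
      rw [Matrix.SpecialLinearGroup.coe_mul, Matrix.SpecialLinearGroup.coe_mul, SL2Tori.coe_inv_eq]
      ext p r
      fin_cases p <;> fin_cases r <;> simp [Y, Z, SL2Tori.tr, Matrix.trace_fin_two, Matrix.mul_apply, Fin.sum_univ_two] <;> ring

/-- `PSL₂(3^odd)` does not involve `S₃`. -/
theorem not_involves_three_psl {n : ℕ} (hF : Fintype.card F = 3 ^ (2 * n + 1)) :
    ¬ Involves (Equiv.Perm (Fin 3)) PSL(2, F) := by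
  classical
  intro hI
  haveI : Fact (Nat.Prime 3) := ⟨Nat.prime_three⟩
  haveI : CharP F 3 := charP_of_card_eq_prime_pow hF
  have hns : ¬ IsSquare (-1 : F) := by
    rw [FiniteField.isSquare_neg_one_iff, not_not, hF, Nat.pow_mod, pow_succ, pow_mul]
    norm_num [Nat.mul_mod, Nat.pow_mod]
  obtain ⟨y, z, hy, -, hinv⟩ := exists_inverted_of_involves_three hI
  have hy1 : y ≠ 1 := fun e => by rw [e, orderOf_one] at hy; norm_num at hy
  have hnt : ¬ IsTor y := by
    obtain ⟨g, rfl⟩ := proj_surjective y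
    rw [isTor_proj, not_not]
    have h3 : proj (g ^ 3) = 1 := by
      rw [← projHom_apply, map_pow, projHom_apply, ← hy, pow_orderOf_eq_one]
    have hcs : (g ^ 3) ^ 2 = 1 := by
      rcases (proj_eq_one_iff _).1 h3 with e | e <;> rw [e]
      · exact one_pow 2
      · rw [neg_sq, one_pow]
    have h2 : (g ^ 2) ^ 3 = 1 := by rw [← pow_mul, ← hcs, ← pow_mul]
    have hm : ((g ^ 2).1 - 1) ^ 3 = 0 := by
      rw [sub_pow_char_of_commute 3 (Commute.one_right _), one_pow,
        ← Matrix.SpecialLinearGroup.coe_pow, h2, Matrix.SpecialLinearGroup.coe_one, sub_self]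
    have hdet : ((g ^ 2).1 - 1).det = 0 := by
      have := congrArg Matrix.det hm
      rw [Matrix.det_pow, Matrix.det_zero] at this
      exact pow_eq_zero_iff (by norm_num : 3 ≠ 0) |>.1 this
    have hd := (g ^ 2).2
    rw [Matrix.det_fin_two] at hd hdet
    have hgd := det_eq_one g
    simp [pow_two, Matrix.SpecialLinearGroup.coe_mul, Matrix.mul_apply, Fin.sum_univ_two] at hd hdet
    rw [SL2Tori.tr, Matrix.trace_fin_two]
    linear_combination -1 * hdet + hd + 2 * hgd
  obtain ⟨a, w, ha⟩ := exists_conj_u hnt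
  have hw : w ≠ 0 := fun e => hy1 (by
    have : a * y * a⁻¹ = 1 := by rw [ha, e, u_zero]
    rwa [mul_inv_eq_one, mul_eq_left] at this)
  set x := a * z * a⁻¹
  have hx : x * u w * x⁻¹ = u (-w) := by
    rw [u_neg, ← ha, show x * (a * y * a⁻¹) * x⁻¹ = a * (z * y * z⁻¹) * a⁻¹ by simp only [x]; group,
      hinv]
    group
  have hxB : x ∈ BP := mem_BP_of_conj_u hw hx
  rw [conj_u hxB] at hx
  have hchi : chi x = -1 := by
    have := u_injective hx
    exact mul_right_cancel₀ hw (this.trans (neg_one_mul w).symm)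
  obtain ⟨g, hg⟩ := proj_surjective x
  refine hns ⟨g.1 0 0, ?_⟩
  rw [← pow_two, ← chi_proj, hg, hchi]

end CfsgLib.GoldschmidtS4
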